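import Cfsg.Agent.Lib.S4Factor.Reduce
import Cfsg.Agent.Lib.ConjFunctor.FusionMain
import Cfsg.Agent.Lib.SigmaFree.Main
import Cfsg.Agent.S2759
import Mathlib.GroupTheory.Subgroup.Centralizer

/-!
# `{Z, J}` controls fusion in groups without a section `S₄`
-/

set_option autoImplicit false
set_option linter.style.haveILetI false

namespace CfsgLib.S4Factor

open Subgroup CfsgLib.ConjFunctor
open scoped IsMulCommutative

universe u

/-- The centre as a functor. -/
def zFun (Q : Type u) [Group Q] : Subgroup Q := Subgroup.center Q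

/-- The Thompson subgroup as a functor. -/
def jFun (Q : Type u) [Group Q] : Subgroup Q := Cfsg.thompsonSubgroup 2 Q

theorem isCharPFunctor_zFun (p : ℕ) [Fact p.Prime] : Cfsg.IsCharPFunctor.{u} p zFun := by
  refine ⟨fun Q _ _ hQ hn => ?_, fun Q R _ _ _ _ φ => ?_⟩
  · exact (Subgroup.nontrivial_iff_ne_bot _).1 hQ.center_nontrivial
  · ext x
    simp only [zFun, Subgroup.mem_map, Subgroup.mem_center_iff]
    constructor
    · rintro ⟨y, hy, rfl⟩ g
      obtain ⟨z, rfl⟩ := φ.surjective g
      simpa using congrArg φ (hy z)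
    · intro hx
      obtain ⟨y, rfl⟩ := φ.surjective x
      exact ⟨y, fun z => φ.injective (by simpa using hx (φ z)), rfl⟩

theorem isCharPFunctor_jFun : Cfsg.IsCharPFunctor.{u} 2 jFun := by
  haveI : Fact (Nat.Prime 2) := ⟨Nat.prime_two⟩
  refine ⟨fun Q _ _ hQ hn => ?_, fun Q R _ _ _ _ φ => ?_⟩
  · obtain ⟨k, hk⟩ := IsPGroup.iff_card.1 hQ
    have h2 : 2 ∣ Nat.card Q := by
      rcases Nat.eq_zero_or_pos k with rfl | h
      · exact absurd hk (ne_of_gt Finite.one_lt_card)
      · exact hk ▸ dvd_pow_self 2 h.ne'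
    obtain ⟨x, hx⟩ := exists_prime_orderOf_dvd_card' 2 h2
    obtain ⟨A, hA⟩ := CfsgLib.PLocal.exists_maxEA 2 Q
    intro h0
    have h3 : A = ⊥ := le_bot_iff.1 (h0 ▸ CfsgLib.PLocal.maxEA_le_thompson hA)
    have h4 := hA.2 _ (CfsgLib.PLocal.isEA_zpowers (hx ▸ pow_orderOf_eq_one x))
    rw [h3, card_bot, Nat.card_zpowers, hx] at h4
    omega
  · exact CfsgLib.PLocal.thompsonSubgroup_map_equiv φ

section Centralize

variable {H : Type u} [Group H] [Finite H]

theorem zClosure_le (S : Sylow 2 H) (hcon : Constrained 2 H) :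
    zClosure S ≤ Cfsg.pCore 2 H ⊓ centralizer ((Cfsg.pCore 2 H : Subgroup H) : Set H) := by
  haveI := CfsgLib.Solvable.pCore_normal 2 H
  refine normalClosure_le_normal fun z hz => ?_
  have hz1 : z ∈ (S : Subgroup H) ⊓ centralizer ((S : Subgroup H) : Set H) :=
    ⟨zOmega_le _ hz, zOmega_le_centralizer _ hz⟩
  exact ⟨center_sylow_le hcon hz1,
    centralizer_le (CfsgLib.Solvable.pCore_le_sylow S) hz1.2⟩

theorem isEA_zClosure (S : Sylow 2 H) (hcon : Constrained 2 H) :
    Cfsg.IsElementaryAbelian 2 (zClosure S) := by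
  have hle := zClosure_le S hcon
  have hc : ∀ a ∈ zClosure S, ∀ b ∈ zClosure S, a * b = b * a := fun a ha b hb =>
    mem_centralizer_iff.1 (hle hb).2 a (hle ha).1
  refine ⟨⟨⟨fun a b => Subtype.ext (hc a a.2 b b.2)⟩⟩, fun x hx => ?_⟩
  refine (?_ : x ∈ zClosure S ∧ x ^ 2 = 1).2
  induction hx using closure_induction with
  | mem y hy =>
    obtain ⟨z, hz, hconj⟩ := Group.mem_conjugatesOfSet_iff.1 hy
    obtain ⟨c, rfl⟩ := isConj_iff.1 hconj
    exact ⟨subset_closure hy, by
      rw [conj_pow, pow_eq_one_of_mem_zOmega hz, mul_one, mul_inv_cancel]⟩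
  | one => exact ⟨one_mem _, one_pow 2⟩
  | mul x y _ _ hx hy =>
    have h : Commute x y := hc x hx.1 y hy.1
    exact ⟨mul_mem hx.1 hy.1, by rw [h.mul_pow, hx.2, hy.2, one_mul]⟩
  | inv x _ hx => exact ⟨inv_mem hx.1, by rw [inv_pow, hx.2, inv_one]⟩

/-- In a constrained group without a section `S₄`, `J(S)` centralises the closure of
`Ω₁(Z(S))`. -/
theorem thompson_le_centralizer (S : Sylow 2 H) (hcon : Constrained 2 H)
    (hS4 : ¬ Cfsg.Involves (Equiv.Perm (Fin 4)) H) :
    Cfsg.thompsonSubgroupOf 2 (S : Subgroup H) ≤ centralizer (zClosure S : Set H) := by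
  classical
  haveI : Fact (Nat.Prime 2) := ⟨Nat.prime_two⟩
  set V := zClosure S with hVdef
  have hVea := isEA_zClosure S hcon
  haveI := hVea.1
  haveI hVn : V.Normal := normalClosure_normal
  set φ : H →* MulAut V := MulAut.conjNormal with hφ
  have hexp : ∀ v : V, v ^ 2 = 1 := fun v => Subtype.ext (hVea.2 v v.2)
  have hker : φ.ker = centralizer (V : Set H) := by
    ext h
    rw [MonoidHom.mem_ker, mem_centralizer_iff]
    constructor
    · intro hh v hv
      have h1 := congrArg (fun e : MulAut V => ((e ⟨v, hv⟩ : V) : H)) hh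
      simp only [hφ, MulAut.conjNormal_apply, MulAut.one_apply] at h1
      exact (mul_inv_eq_iff_eq_mul.1 h1).symm
    · intro hh
      refine MulEquiv.ext fun v => Subtype.ext ?_
      rw [hφ, MulAut.conjNormal_apply, ← hh v v.2, mul_inv_cancel_right]
      rfl
  -- no section `S₃`
  have hS3 : SigmaFree.NoS3 φ.range := by
    set N := normalizer (V : Set H)
    set C := (centralizer (V : Set H)).subgroupOf N
    haveI : C.Normal := by
      rw [show C = V.normalizerMonoidHom.ker from V.normalizerMonoidHom_ker.symm]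
      infer_instance
    have hQ : SigmaFree.NoS3 (↥N ⧸ C) := fun h => hS4 (Cfsg.Agent.S2759.result.2
      ⟨V, fun v => ⟨1, by rw [pow_one]; exact hexp v⟩, h⟩)
    set f : (↥N ⧸ C) →* φ.range := QuotientGroup.lift C (φ.rangeRestrict.comp N.subtype)
      fun x hx => Subtype.ext (MonoidHom.mem_ker.1 (hker.ge (mem_subgroupOf.1 hx)))
    refine hQ.of_surjective ⊤ (f.comp (topEquiv : (⊤ : Subgroup (↥N ⧸ C)) ≃* _).toMonoidHom) ?_
    have hN : ∀ h : H, h ∈ N := fun h => by
      show h ∈ normalizer (V : Set H)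
      rw [normalizer_eq_top]
      exact mem_top h
    have hf : Function.Surjective f := fun y => by
      obtain ⟨h, rfl⟩ := φ.rangeRestrict_surjective y
      exact ⟨QuotientGroup.mk' C ⟨h, hN h⟩, rfl⟩
    exact hf.comp (MulEquiv.surjective _)
  -- trivial core
  have hcore : Cfsg.pCore 2 φ.range = ⊥ := by
    refine eq_bot_iff.2 fun o ho => ?_
    have hsur := φ.rangeRestrict_surjective
    haveI := LocalEven.core_normal 2 φ.range
    set D := (Cfsg.pCore 2 φ.range).comap φ.rangeRestrict with hD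
    haveI : D.Normal := Normal.comap inferInstance _
    have hO : Cfsg.pCore 2 φ.range ≤ (S : Subgroup H).map φ.rangeRestrict := by
      have h := (S.mapSurjective hsur).3
        ((Sylow.mapSurjective hsur S).2.to_sup_of_normal_right
          (LocalEven.core_isPGroup 2 _)) le_sup_left
      exact le_sup_right.trans h.le
    have hfix : ∀ d ∈ D, ∀ z ∈ zOmega 2 (S : Subgroup H), d * z * d⁻¹ = z := by
      intro d hd z hz
      obtain ⟨s, hs, he⟩ := hO (show φ.rangeRestrict d ∈ _ from hd)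
      have h1 : φ s = φ d := congrArg Subtype.val he
      have h2 := congrArg (fun e : MulAut V => ((e ⟨z, subset_normalClosure hz⟩ : V) : H)) h1
      simp only [hφ, MulAut.conjNormal_apply] at h2
      rw [← h2, mul_inv_eq_iff_eq_mul]
      exact mem_centralizer_iff.1 (zOmega_le_centralizer _ hz) s hs
    obtain ⟨d, rfl⟩ := hsur o
    refine mem_bot.2 (Subtype.ext ?_)
    show φ d = 1
    rw [← MonoidHom.mem_ker, hker]
    suffices h : V ≤ centralizer (D : Set H) from le_centralizer_iff.1 h ho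
    refine normalClosure_le_normal fun z hz => mem_centralizer_iff.2 fun d' hd' => ?_
    exact mul_inv_eq_iff_eq_mul.1 (hfix d' hd' z hz)
  -- offenders
  rw [CfsgLib.PLocal.thompsonSubgroupOf_eq, sSup_le_iff]
  rintro A ⟨hAS, hAea, hAmax⟩
  rw [← hker]
  have hVS : V ≤ (S : Subgroup H) :=
    (zClosure_le S hcon).trans (inf_le_left.trans (CfsgLib.Solvable.pCore_le_sylow S))
  have hmono : Cfsg.IsElementaryAbelian 2 (A ⊓ centralizer (V : Set H) : Subgroup H) :=
    CfsgLib.PLocal.isEA_mono hAea inf_le_left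
  have hB := hAmax _ (sup_le (inf_le_left.trans hAS) hVS)
    (CfsgLib.PLocal.isEA_sup hmono hVea inf_le_right)
  refine SigmaFree.le_ker_of_offender_range φ hexp hS3 hcore A hAea ?_
  rw [hker]
  refine (CfsgLib.PLocal.card_mul_card_le_sup_inf _ _).trans (Nat.mul_le_mul hB ?_)
  refine Nat.card_le_card_of_injective (fun v : ((A ⊓ centralizer (V : Set H)) ⊓ V : Subgroup H) =>
    (⟨⟨v.1, v.2.2⟩, fun a ha => Subtype.ext ?_⟩ : NoFF.fixp φ A)) fun v w h =>
      Subtype.ext (congrArg (fun t : NoFF.fixp φ A => ((t : V) : H)) h)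
  have h := congrArg Subtype.val (hAea.1.is_comm.comm ⟨a, ha⟩ ⟨v.1, v.2.1.1⟩)
  simp only [hφ, MulAut.conjNormal_apply]
  exact mul_inv_eq_iff_eq_mul.2 (by simpa using h)

end Centralize

theorem inducedFunctor_zFun {H : Type u} [Group H] (P : Subgroup H) :
    Cfsg.inducedFunctor (G := H) zFun P = P ⊓ centralizer (P : Set H) := by
  ext x
  constructor
  · rintro ⟨y, hy, rfl⟩
    exact ⟨y.2, mem_centralizer_iff.2 fun p hp =>
      congrArg Subtype.val (mem_center_iff.1 hy ⟨p, hp⟩)⟩
  · rintro ⟨hx, hc⟩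
    exact ⟨⟨x, hx⟩, mem_center_iff.2 fun p => Subtype.ext (mem_centralizer_iff.1 hc p p.2), rfl⟩

theorem not_involves_sec {G H : Type u} [Group G] [Group H] {Q : Type*} [Group Q]
    (hsec : IsSec G H) (h : ¬ Cfsg.Involves Q G) : ¬ Cfsg.Involves Q H := by
  intro hH
  obtain ⟨L, g, hg⟩ := LocalEven.exists_surjective_of_involves hH
  obtain ⟨K, f, hf⟩ := hsec.subgroup L
  exact h (LocalEven.involves_of_surjective K (g.comp f) (hg.comp hf))

/-- Without a section `S₄`, `{Z, J}` controls strong fusion in every section. -/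
theorem family_controls {G : Type u} [Group G] [Finite G]
    (hS4 : ¬ Cfsg.Involves (Equiv.Perm (Fin 4)) G) (X : Type u) [Group X] [Finite X]
    (hsec : IsSec G X) : Cfsg.FamilyControlsStrongFusionIn 2
      ((fun W => Cfsg.inducedFunctor (G := X) W) ''
        ({zFun, jFun} : Set (∀ (Q : Type u) [Group Q], Subgroup Q))) ⊤ := by
  haveI : Fact (Nat.Prime 2) := ⟨Nat.prime_two⟩
  refine controls_of_fused (default : Sylow 2 X) (fusion_reduce (G := G) (fun W hW => ?_)
    (fun H _ _ hs => fusionInput_of_factor (isCharPFunctor_zFun 2) isCharPFunctor_jFun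
      (Or.inl rfl) (Or.inr rfl) H fun hcon S x => ?_) X hsec default)
  · rcases hW with hW | hW
    · rw [hW]; exact isCharPFunctor_zFun 2
    · rw [Set.mem_singleton_iff] at hW; rw [hW]; exact isCharPFunctor_jFun
  · obtain ⟨a, ha, b, hb, rfl⟩ :=
      exists_factor S hcon (thompson_le_centralizer S hcon (not_involves_sec hs hS4)) x
    exact ⟨a, centralizer_le_normalizer _ (by rw [inducedFunctor_zFun]; exact ha), b, hb, rfl⟩

end CfsgLib.S4Factor
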