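import Cfsg.Agent.Lib.KInf.Qd
import Cfsg.Agent.Lib.ConjFunctor.FusionMain

/-!
# The functor `K_∞` as a one-element family
-/

set_option autoImplicit false

namespace CfsgLib.KInf

open CfsgLib.ConjFunctor

universe u

theorem kInfLower_family_controls {p : ℕ} [Fact p.Prime] (hp : p ≠ 2) {G : Type u} [Group G]
    [Finite G] (h : ¬ Cfsg.Involves ↥(Cfsg.qd p) G) (X : Type u) [Group X] [Finite X]
    (hsec : IsSec G X) : Cfsg.FamilyControlsStrongFusionIn p
      ((fun W => Cfsg.inducedFunctor (G := X) W) ''
        ({Cfsg.kInfLower.{u}} : Set (∀ (Q : Type u) [Group Q], Subgroup Q))) ⊤ := by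
  have hst := fun (K R : Subgroup G) [(R.subgroupOf K).Normal] =>
    pStable_sections_of_no_qd hp h K R
  refine controls_of_fused (default : Sylow p X) (fusion_reduce (G := G) (fun W hW => ?_)
    (fun H _ _ hs => fusionInput_of_normal (W := Cfsg.kInfLower.{u}) (Set.mem_singleton _) H
      fun hcon S => (kInf_normal_of_pStab hcon
        (fun V _ => pStab_sec hst (H ⧸ V) (hs.of_surjective (QuotientGroup.mk'_surjective V))) S).1)
    X hsec default)
  rw [Set.mem_singleton_iff] at hW; rw [hW]; exact isCharPFunctor_kInfLower p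

end CfsgLib.KInf
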