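import Cfsg.Agent.Lib.KInf.Qd
import Cfsg.Agent.Lib.ConjFunctor.FusionMain
import Cfsg.Agent.S2763

/-! In a group isomorphic to `Qd(p)` no set of isomorphism-invariant functors controls fusion. -/

set_option autoImplicit false
set_option linter.style.haveILetI false

namespace CfsgLib.S4Factor

open CfsgLib.ConjFunctor CfsgLib.Qd

universe u

variable {p : ℕ}

theorem not_family_controls_of_equiv_qd [Fact p.Prime] {X : Type u} [Group X] [Finite X]
    (e : X ≃* ↥(Cfsg.qd p)) (𝓦 : Set (∀ (Q : Type u) [Group Q], Subgroup Q))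
    (h𝓦 : ∀ W ∈ 𝓦, Cfsg.IsCharPFunctor.{u} p W) :
    ¬ Cfsg.FamilyControlsStrongFusionIn p ((fun W => Cfsg.inducedFunctor (G := X) W) '' 𝓦) ⊤ := by
  intro hall
  haveI : NeZero p := ⟨(Fact.out : p.Prime).ne_zero⟩
  obtain ⟨T₀, hT₀⟩ := qdUpper_isSylow (p := p)
  haveI : Finite ↥(Cfsg.qd p) := Finite.of_equiv X e.toEquiv
  have hs : Function.Surjective e.symm.toMonoidHom := e.symm.surjective
  set T := T₀.mapSurjective hs with hT
  have hTm : (T : Subgroup X) = (qdUpper p).map e.symm.toMonoidHom := by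
    rw [hT, Sylow.coe_mapSurjective, hT₀]
  have hTe : (T : Subgroup X).map e.toMonoidHom = qdUpper p := by
    rw [hTm, Subgroup.map_map]
    convert Subgroup.map_id (qdUpper p)
    exact MonoidHom.ext fun y => by simp
  have hN : ∀ W ∈ 𝓦, ∀ x ∈ Subgroup.normalizer
      ((Cfsg.inducedFunctor (G := X) W (T : Subgroup X) : Subgroup X) : Set X),
      e x ∈ Subgroup.normalizer (qdUpper p : Set ↥(Cfsg.qd p)) := by
    intro W hW x hx
    set WT := Cfsg.inducedFunctor (G := X) W (T : Subgroup X)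
    have hWT : WT ≤ (T : Subgroup X) := inducedFunctor_le _
    have hWne : WT ≠ ⊥ := by
      refine inducedFunctor_ne_bot (h𝓦 W hW) T.isPGroup' fun h => ?_
      rw [h, Subgroup.map_bot] at hTe
      have h1 : tra (1 : ZMod p) 0 ∈ qdUpper p := tra_mem_qdUpper _ _
      rw [← hTe, Subgroup.mem_bot, ← mk_one] at h1
      simp [tra, mk_inj] at h1
    have hle : WT.map e.toMonoidHom ≤ qdUpper p := hTe ▸ Subgroup.map_mono hWT
    have h1 : e x ∈ Subgroup.normalizer
        ((WT.map e.toMonoidHom : Subgroup ↥(Cfsg.qd p)) : Set ↥(Cfsg.qd p)) := by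
      rw [← Subgroup.map_equiv_normalizer_eq]
      exact ⟨x, hx, rfl⟩
    have hc : ((WT.map e.toMonoidHom).subgroupOf (qdUpper p)).Characteristic := by
      let ψ : ↥(T : Subgroup X) ≃* ↥(qdUpper p) :=
        (e.subgroupMap (T : Subgroup X)).trans (MulEquiv.subgroupCongr hTe)
      have hψ : (WT.map e.toMonoidHom).subgroupOf (qdUpper p) =
          (W ↥(T : Subgroup X)).map ψ.toMonoidHom := by
        have h0 : WT.map e.toMonoidHom =
            ((W ↥(T : Subgroup X)).map ψ.toMonoidHom).map (qdUpper p).subtype := by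
          show ((W ↥(T : Subgroup X)).map (T : Subgroup X).subtype).map e.toMonoidHom = _
          rw [Subgroup.map_map, Subgroup.map_map]
          exact congrArg (fun f => Subgroup.map f _) (MonoidHom.ext fun _ => rfl)
        rw [h0, Subgroup.subgroupOf,
          Subgroup.comap_map_eq_self_of_injective (qdUpper p).subtype_injective]
      rw [hψ, Subgroup.characteristic_iff_map_eq]
      intro φ
      have h2 := (h𝓦 W hW).2 _ _ T.isPGroup' ((ψ.trans φ).trans ψ.symm)
      conv_rhs => rw [← h2]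
      rw [Subgroup.map_map, Subgroup.map_map]
      exact congrArg (fun f => Subgroup.map f _) (MonoidHom.ext fun y => by simp)
    rw [← hT₀] at hc hle ⊢
    have h2 := (Cfsg.Agent.S2763.result T₀ ((WT.map e.toMonoidHom).subgroupOf (T₀ : Subgroup ↥(Cfsg.qd p))) (by
      rw [Ne, Subgroup.subgroupOf_eq_bot, disjoint_iff, inf_eq_left.2 hle,
        Subgroup.map_eq_bot_iff_of_injective _ e.injective]
      exact hWne) hc).1
    rw [Subgroup.map_subgroupOf_eq_of_le hle] at h2
    rwa [← h2]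
  set w : ↥(Cfsg.qd p) := mk 0 (-1) 1 0 0 0 (by ring)
  set z := e.symm (tra (1 : ZMod p) 0) with hz
  set g := e.symm w
  have hgz : g * z * g⁻¹ = e.symm (tra 0 1) := by
    rw [hz, ← map_mul, ← map_inv, ← map_mul, conj_tra]
    refine congrArg e.symm (mk_eq rfl rfl rfl rfl ?_ ?_) <;> ring
  have hzV : ∀ a b : ZMod p, ∀ P : Sylow p X, e.symm (tra a b) ∈ (P : Subgroup X) := by
    intro a b P
    obtain ⟨y, hy⟩ := MulAction.exists_smul_eq X T P
    obtain ⟨a', b', c', d', u', v', hd', hy'⟩ := exists_eq_mk (e y⁻¹)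
    rw [← hy, Sylow.coe_subgroup_smul]
    refine ⟨e.symm (e y⁻¹ * tra a b * (e y⁻¹)⁻¹), ?_, ?_⟩
    · rw [hy', conj_tra, hTm]
      exact ⟨_, tra_mem_qdUpper _ _, rfl⟩
    · simp [MulAut.conj_apply, mul_assoc]
  have hzT : Subgroup.zpowers z ≤ (T : Subgroup X) := Subgroup.zpowers_le.2 (hzV 1 0 T)
  obtain ⟨x, hr, hag⟩ := reach_of_familyControls (fun V hV => by
      obtain ⟨V', hV', rfl⟩ := hV
      exact isConjugacyFunctor_inducedFunctor (h𝓦 V' hV'))
    hall (isSyl_top T) (Subgroup.mem_top g) hzT (by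
      show (Subgroup.zpowers z).map (MulAut.conj g).toMonoidHom ≤ _
      rw [MonoidHom.map_zpowers, Subgroup.zpowers_le]
      show g * z * g⁻¹ ∈ _
      rw [hgz]
      exact hzV 0 1 T)
  have hxN : e x ∈ Subgroup.normalizer (qdUpper p : Set ↥(Cfsg.qd p)) := by
    clear hag
    generalize Subgroup.zpowers z = D at hr
    induction hr with
    | refl _ => rw [map_one]; exact one_mem _
    | step hy _ _ ih =>
      obtain ⟨_, ⟨W, hW, rfl⟩, hy⟩ := hy
      rw [map_mul]
      exact mul_mem ih (hN W hW _ hy.2)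
  have h2 : g * z * g⁻¹ = x * z * x⁻¹ := (hag z (Subgroup.mem_zpowers z)).symm
  obtain ⟨a, b, c, d, u, v, hd, hxe⟩ := exists_eq_mk (e x)
  rw [hxe] at hxN
  have hc := eq_zero_of_mem_normalizer_qdUpper hxN
  subst hc
  have h4 := congrArg e (hgz.symm.trans h2)
  rw [map_mul, map_mul, map_inv, hxe, hz, e.apply_symm_apply, e.apply_symm_apply, conj_tra] at h4
  simp only [tra, mk_inj] at h4
  have h5 : (1 : ZMod p) = 0 := by linear_combination h4.2.2.2.2.2
  exact one_ne_zero h5

end CfsgLib.S4Factor
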