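import Cfsg.Agent.Lib.ConjFunctor.CentralClosure
import Cfsg.Agent.Lib.PLocal.Thompson
import Cfsg.Agent.Lib.PLocal.Constrained
import Cfsg.Agent.Lib.PLocal.SylowAux

/-!
# Factorisations from `J(S) ≤ C(V)`

In a group with `C(O_p) ≤ O_p`, if the Thompson subgroup of a Sylow subgroup `S` centralizes the normal closure
`V` of `Ω₁(Z(S))` then `G = C(Z(S)) N(J(S))`.
-/

set_option autoImplicit false
set_option linter.style.haveILetI false
set_option linter.unusedSectionVars false

namespace CfsgLib.S4Factor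

open CfsgLib.ConjFunctor

universe u

variable {H : Type u} [Group H] [Finite H] {p : ℕ} [Fact p.Prime]

/-- If the elements of order `p` of `C_A(S)` are central then all of `C_A(S)` is. -/
theorem commute_of_omega (S : Sylow p H) (A : Subgroup H) [A.Normal]
    (hc : ∀ a ∈ A, ∀ b ∈ A, Commute a b) (hA : IsPGroup p A)
    (hΩ : ∀ z ∈ A, (∀ s ∈ (S : Subgroup H), Commute s z) → z ^ p = 1 → ∀ h, Commute h z) :
    ∀ z ∈ A, (∀ s ∈ (S : Subgroup H), Commute s z) → ∀ h, Commute h z := by
  classical
  intro z hz hs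
  obtain ⟨k, hk⟩ := hA ⟨z, hz⟩
  replace hk : z ^ p ^ k = 1 := congrArg Subtype.val hk
  induction k generalizing z with
  | zero => rw [pow_zero, pow_one] at hk; rw [hk]; exact fun h => Commute.one_right h
  | succ k ih =>
    have hzp : ∀ h, Commute h (z ^ p) := ih (z ^ p) (pow_mem hz p) (fun s h => (hs s h).pow_right p)
      (by rw [← pow_mul, ← pow_succ']; exact hk)
    letI : CommGroup ↥A := { (inferInstance : Group ↥A) with
      mul_comm := fun a b => Subtype.ext (hc a a.2 b b.2) }
    letI : Fintype (H ⧸ (S : Subgroup H)) := Fintype.ofFinite _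
    let f : H ⧸ (S : Subgroup H) → ↥A := fun q => q.liftOn'
      (fun x => (⟨x * z * x⁻¹, ‹A.Normal›.conj_mem z hz x⟩ : ↥A)) (fun x y hxy => by
        rw [QuotientGroup.leftRel_apply] at hxy
        refine Subtype.ext ?_
        have h1 : x⁻¹ * y * z * (x⁻¹ * y)⁻¹ = z := by rw [(hs _ hxy).eq, mul_inv_cancel_right]
        calc x * z * x⁻¹ = x * (x⁻¹ * y * z * (x⁻¹ * y)⁻¹) * x⁻¹ := by rw [h1]
          _ = y * z * y⁻¹ := by group)
    set tr : ↥A := ∏ q, f q with htr
    have htrc : ∀ h : H, Commute h (tr : H) := by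
      intro h
      have h1 : (MulAut.conjNormal h : MulAut ↥A) tr = tr := by
        rw [htr, map_prod]
        refine Fintype.prod_equiv (MulAction.toPerm h) _ _ fun q => ?_
        obtain ⟨x, rfl⟩ := QuotientGroup.mk_surjective q
        apply Subtype.ext
        show h * (x * z * x⁻¹) * h⁻¹ = h * x * z * (h * x)⁻¹
        group
      have h2 : h * (tr : H) * h⁻¹ = tr := by
        rw [← MulAut.conjNormal_apply, h1]
      exact mul_inv_eq_iff_eq_mul.1 h2
    set m := Fintype.card (H ⧸ (S : Subgroup H)) with hm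
    set w : H := (tr : H) * (z ^ m)⁻¹ with hw
    have hwA : w ∈ A := mul_mem tr.2 (inv_mem (pow_mem hz m))
    have hws : ∀ s ∈ (S : Subgroup H), Commute s w := fun s h =>
      (htrc s).mul_right ((hs s h).pow_right m).inv_right
    have hfp : ∀ q, ((f q : ↥A) : H) ^ p = z ^ p := fun q => by
      obtain ⟨x, rfl⟩ := QuotientGroup.mk_surjective q
      show (x * z * x⁻¹) ^ p = z ^ p
      rw [conj_pow, (hzp x).eq, mul_inv_cancel_right]
    have htrp : (tr : H) ^ p = (z ^ m) ^ p := by
      have : tr ^ p = ∏ _q : H ⧸ (S : Subgroup H), (⟨z, hz⟩ : ↥A) ^ p := by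
        rw [htr, ← Finset.prod_pow]
        exact Finset.prod_congr rfl fun q _ => Subtype.ext (by simpa using hfp q)
      rw [Finset.prod_const, Finset.card_univ] at this
      have h2 := congrArg Subtype.val this
      simp only [SubgroupClass.coe_pow] at h2
      rw [h2, ← hm, ← pow_mul, ← pow_mul, mul_comm]
    have hwp : w ^ p = 1 := by
      rw [hw, (hc _ tr.2 _ (inv_mem (pow_mem hz m))).mul_pow, inv_pow, htrp, mul_inv_cancel]
    have hwc := hΩ w hwA hws hwp
    have hzm : ∀ h, Commute h (z ^ m) := fun h => by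
      have he : z ^ m = w⁻¹ * (tr : H) := by
        have := hc _ (inv_mem (pow_mem hz m)) _ tr.2
        rw [hw, mul_inv_rev, inv_inv, mul_assoc, inv_mul_cancel, mul_one]
      rw [he]; exact (hwc h).inv_right.mul_right (htrc h)
    have hcop : m.Coprime (orderOf z) := by
      refine Nat.Coprime.coprime_dvd_right (orderOf_dvd_of_pow_eq_one hk) (Nat.Coprime.pow_right _ ?_)
      have h := S.not_dvd_index
      rw [Subgroup.index, Nat.card_eq_fintype_card, ← hm] at h
      exact (((Nat.Prime.coprime_iff_not_dvd Fact.out).2 h)).symm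
    obtain ⟨n, hn⟩ := exists_pow_eq_self_of_coprime hcop
    intro h
    rw [← hn]
    exact (hzm h).pow_right n

/-- The normal closure of `Ω₁(Z(S))`. -/
abbrev zClosure (S : Sylow p H) : Subgroup H :=
  Subgroup.normalClosure ((zOmega p (S : Subgroup H) : Subgroup H) : Set H)

theorem center_sylow_le {S : Sylow p H} (hcon : Constrained p H) :
    (S : Subgroup H) ⊓ Subgroup.centralizer ((S : Subgroup H) : Set H) ≤ Cfsg.pCore p H := fun _ hx =>
  hcon (Subgroup.centralizer_le (CfsgLib.Solvable.pCore_le_sylow S) hx.2)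

/-- Elements centralizing `Ω₁(Z(S))` centralize `Z(S)`, when `C(O_p) ≤ O_p`. -/
theorem centralizer_zOmega_le (S : Sylow p H) (hcon : Constrained p H) :
    Subgroup.centralizer ((zOmega p (S : Subgroup H) : Subgroup H) : Set H) ≤
      Subgroup.centralizer (((S : Subgroup H) ⊓ Subgroup.centralizer ((S : Subgroup H) : Set H) :
        Subgroup H) : Set H) := by
  set L := Subgroup.centralizer ((zOmega p (S : Subgroup H) : Subgroup H) : Set H)
  set Q := Cfsg.pCore p H
  haveI := CfsgLib.Solvable.pCore_normal p H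
  have hSL : (S : Subgroup H) ≤ L := Subgroup.le_centralizer_iff.1 (zOmega_le_centralizer _)
  set A0 := Q ⊓ Subgroup.centralizer (Q : Set H) with hA0
  haveI : A0.Normal := by rw [hA0]; infer_instance
  intro g hg
  refine Subgroup.mem_centralizer_iff.2 fun z hz => ?_
  have hzQ := center_sylow_le hcon hz
  have hzA0 : z ∈ A0 := ⟨hzQ, Subgroup.centralizer_le (CfsgLib.Solvable.pCore_le_sylow S) hz.2⟩
  have key := commute_of_omega (H := ↥L) (p := p) (S.subtype hSL) (A0.subgroupOf L)
    (fun a ha b hb => Subtype.ext (Subgroup.mem_centralizer_iff.1 hb.2 (a : H) ha.1))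
    (((CfsgLib.Solvable.pCore_isPGroup p H).to_le inf_le_left).comap_of_injective L.subtype
      L.subtype_injective)
    (fun w hw hws hwp h => by
      have hwΩ : (w : H) ∈ zOmega p (S : Subgroup H) := Subgroup.subset_closure
        ⟨⟨CfsgLib.Solvable.pCore_le_sylow S hw.1, Subgroup.mem_centralizer_iff.2 fun s hs =>
          congrArg Subtype.val (hws ⟨s, hSL hs⟩ hs).eq⟩, congrArg Subtype.val hwp⟩
      exact Subtype.ext (Subgroup.mem_centralizer_iff.1 h.2 _ hwΩ).symm)
    ⟨z, hSL hz.1⟩ hzA0
    (fun s hs => Subtype.ext (Subgroup.mem_centralizer_iff.1 hz.2 _ hs))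
    ⟨g, hg⟩
  exact (congrArg Subtype.val key.eq).symm

/-- The factorisation. -/
theorem exists_factor (S : Sylow p H) (hcon : Constrained p H)
    (hJ : Cfsg.thompsonSubgroupOf p (S : Subgroup H) ≤
      Subgroup.centralizer (zClosure S : Set H)) (x : H) :
    ∃ a ∈ Subgroup.centralizer (((S : Subgroup H) ⊓ Subgroup.centralizer ((S : Subgroup H) : Set H) :
        Subgroup H) : Set H),
      ∃ b ∈ Subgroup.normalizer
        ((Cfsg.thompsonSubgroupOf p (S : Subgroup H) : Subgroup H) : Set H), x = a * b := by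
  set C := Subgroup.centralizer (zClosure S : Set H)
  haveI : C.Normal := inferInstance
  obtain ⟨a, ha, b, hb, rfl⟩ := Subgroup.mem_sup_of_normal_left.1
    (show x ∈ C ⊔ Subgroup.normalizer
      ((Cfsg.thompsonSubgroupOf p (S : Subgroup H) : Subgroup H) : Set H) by
      rw [CfsgLib.PLocal.frattini_thompson S C hJ]; trivial)
  exact ⟨a, centralizer_zOmega_le S hcon
    (Subgroup.centralizer_le Subgroup.le_normalClosure ha), b, hb, rfl⟩

end CfsgLib.S4Factor
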